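import Groth.Agent.L28.Ext.Etale
import Groth.Agent.L25.NilAction
import Groth.Agent.L25.Extension.Affine
import Groth.Agent.L25.Actions
import Groth.Agent.L23.AffineMor
import Groth.Agent.L25.Locus.Smooth
import Groth.Agent.L25.Locus.Normalizer

/-!
# Short exact sequences of commutative groups under base change; splittings from characters
-/

set_option autoImplicit false
set_option linter.style.haveILetI false
set_option backward.isDefEq.respectTransparency.types false

universe u

open CategoryTheory CategoryTheory.Limits MonoidalCategory CartesianMonoidalCategory MonObj AlgebraicGeometry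
open Groth.L25 (NilAction.toBase NilAction.ofBase)

noncomputable section

namespace Groth.L19.ExtGm

variable {S : Scheme.{u}} {G E Q : Over S} [GrpObj G] [GrpObj E] [GrpObj Q]

/-- The pointwise content of a short exact sequence. -/
structure PtExact (u : G ⟶ E) (v : E ⟶ Q) : Prop where
  cov : Groth.L28.Ext.Cov v
  comp : u ≫ v = 1
  inj : ∀ (T : Over S) (g g' : T ⟶ G), g ≫ u = g' ≫ u → g = g'
  lift : ∀ (T : Over S) (a b : T ⟶ E), a ≫ v = b ≫ v → ∃ g : T ⟶ G, a * (g ≫ u) = b

theorem PtExact.of_exact {u : G ⟶ E} {v : E ⟶ Q} (hex : NonAbH1.IsExactSeq Scheme.fppfPrecoverage u v) :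
    PtExact u v where
  cov := Groth.L28.Ext.cov_v hex
  comp := hex.2.2.1
  inj _ _ _ h := Groth.L28.Ext.comp_u_injective hex h
  lift _ _ _ h := Groth.L28.Ext.exists_of_comp_eq hex h

theorem cov_bc {S' : Scheme.{u}} (f : S' ⟶ S) {H K : Over S} {q : H ⟶ K} (hq : Groth.L28.Ext.Cov q) :
    Groth.L28.Ext.Cov ((Over.pullback f).map q) := by
  refine Scheme.fppfTopology.superset_covering ?_
    (Scheme.fppfTopology.pullback_stable (pullback.fst K.hom f) hq)
  rintro T g ⟨_, s, _, ⟨⟩, e⟩
  have hw : s ≫ H.hom = (g ≫ pullback.snd K.hom f) ≫ f := by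
    rw [← Over.w q, reassoc_of% e, Category.assoc, pullback.condition]
  refine ⟨_, pullback.lift s (g ≫ pullback.snd K.hom f) hw, _, Presieve.singleton_self _, ?_⟩
  apply pullback.hom_ext
  · rw [show ((Over.pullback f).map q).left = pullback.lift (pullback.fst H.hom f ≫ q.left)
      (pullback.snd H.hom f) (by simp [pullback.condition]) from rfl]
    rw [Category.assoc, pullback.lift_fst, pullback.lift_fst_assoc, e]
  · rw [show ((Over.pullback f).map q).left = pullback.lift (pullback.fst H.hom f ≫ q.left)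
      (pullback.snd H.hom f) (by simp [pullback.condition]) from rfl]
    rw [Category.assoc, pullback.lift_snd, pullback.lift_snd]

theorem PtExact.bc {u : G ⟶ E} {v : E ⟶ Q} (h : PtExact u v) {S' : Scheme.{u}} (f : S' ⟶ S) :
    PtExact ((Over.pullback f).map u) ((Over.pullback f).map v) where
  cov := cov_bc f h.cov
  comp := by
    have e : Groth.L25.NilAction.toBase f
        (𝟙 (Red.bc f G) ≫ (Over.pullback f).map u ≫ (Over.pullback f).map v) = 1 := by
      rw [← Functor.map_comp, Groth.L25.Locus.toBase_map, h.comp, MonObj.comp_one]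
    rw [Category.id_comp] at e
    exact (Groth.L25.Extension.toBase_eq_one_iff f _).1 e
  inj T g g' e := by
    have e1 := congrArg (Groth.L25.NilAction.toBase f) e
    rw [Groth.L25.Locus.toBase_map, Groth.L25.Locus.toBase_map] at e1
    rw [← Groth.L25.NilAction.ofBase_toBase f g, h.inj _ _ _ e1, Groth.L25.NilAction.ofBase_toBase]
  lift T a b e := by
    have e1 := congrArg (Groth.L25.NilAction.toBase f) e
    rw [Groth.L25.Locus.toBase_map, Groth.L25.Locus.toBase_map] at e1
    obtain ⟨g, hg⟩ := h.lift _ _ _ e1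
    refine ⟨Groth.L25.NilAction.ofBase f g, ?_⟩
    rw [Groth.L25.NilAction.ofBase_comp, ← Groth.L25.NilAction.ofBase_toBase f a,
      ← Groth.L25.Locus.ofBase_mul, hg, Groth.L25.NilAction.ofBase_toBase]

/-- A retraction of the sub gives a section of the quotient. -/
theorem PtExact.exists_section [IsCommMonObj E] {u : G ⟶ E} {v : E ⟶ Q} [IsMonHom u] [IsMonHom v]
    (h : PtExact u v) (χ : E ⟶ G) [IsMonHom χ] (hχ : u ≫ χ = 𝟙 G) :
    ∃ σ : Q ⟶ E, IsMonHom σ ∧ σ ≫ v = 𝟙 Q := by
  let φ : E ⟶ E := 𝟙 E / (χ ≫ u)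
  have hφ : ∀ {T : Over S} (a : T ⟶ E), a ≫ φ = a / (a ≫ χ ≫ u) := fun a => by
    simp only [φ, div_eq_mul_inv, MonObj.comp_mul, GrpObj.comp_inv, Category.comp_id]
  obtain ⟨σ, hσ⟩ := Groth.L28.Ext.descend h.cov φ fun T a b e => by
    obtain ⟨g, rfl⟩ := h.lift T a b e
    rw [hφ, hφ, MonObj.mul_comp, Category.assoc g u, reassoc_of% hχ, mul_div_mul_right_eq_div]
  have hv : σ ≫ v = 𝟙 Q := by
    refine Groth.L28.Ext.cancel h.cov ?_
    rw [reassoc_of% hσ, Category.comp_id]
    show (𝟙 E / (χ ≫ u)) ≫ v = v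
    rw [div_eq_mul_inv, MonObj.mul_comp, GrpObj.inv_comp, Category.id_comp, Category.assoc, h.comp, MonObj.comp_one, inv_one, _root_.mul_one]
  refine ⟨σ, Groth.L25.Bridge.isMonHom_of_mul σ fun X a b => ?_, hv⟩
  obtain ⟨g, hg⟩ := h.lift X ((a ≫ σ) * (b ≫ σ)) ((a * b) ≫ σ) (by
    simp only [MonObj.mul_comp, Category.assoc, hv, Category.comp_id])
  have hk : ∀ {T : Over S} (c : T ⟶ Q), c ≫ σ ≫ χ = 1 := by
    intro T c
    have h1 : σ ≫ χ = 1 := by
      refine Groth.L28.Ext.cancel h.cov ?_
      rw [reassoc_of% hσ, MonObj.comp_one]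
      show (𝟙 E / (χ ≫ u)) ≫ χ = 1
      rw [div_eq_mul_inv, MonObj.mul_comp, GrpObj.inv_comp, Category.id_comp, Category.assoc, hχ, Category.comp_id, mul_inv_cancel]
    rw [h1, MonObj.comp_one]
  have h2 := congrArg (· ≫ χ) hg
  simp only [MonObj.mul_comp, Category.assoc, hk, hχ, Category.comp_id, _root_.one_mul] at h2
  rw [← hg, h2, MonObj.one_comp, _root_.mul_one]

/-- The projection of an exact sequence inherits descending properties of the kernel. -/
theorem of_descends {u : G ⟶ E} {v : E ⟶ Q} (hex : NonAbH1.IsExactSeq Scheme.fppfPrecoverage u v)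
    (P : MorphismProperty Scheme.{u}) [P.IsStableUnderBaseChange] [IsZariskiLocalAtTarget P]
    [P.DescendsAlong (@Surjective ⊓ @Flat ⊓ @QuasiCompact)] (hP : P G.hom) : P v.left := by
  obtain ⟨P', g, s, hg1, hg2, hg3, hs⟩ := Groth.L28.Ext.exists_fppf_section v hex.2.2.2.2
  let T : Over S := Over.mk (g ≫ Q.hom)
  let a : T ⟶ E := Over.homMk s (by
    change s ≫ E.hom = g ≫ Q.hom
    rw [← hs, Category.assoc, Over.w v])
  let q : T ⟶ Q := Over.homMk g
  have haq : a ≫ v = q := Over.OverMorphism.ext hs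
  have h1 : IsPullback (a ▷ G) (fst T G) (fst E G) a := by
    refine IsPullback.mk' (whiskerRight_fst a G) (fun W φ ψ e1 e2 => ?_) (fun W x y e => ?_)
    · refine CartesianMonoidalCategory.hom_ext _ _ e2 ?_
      have := congrArg (· ≫ snd E G) e1
      simpa using this
    · refine ⟨lift y (x ≫ snd E G), ?_, lift_fst _ _⟩
      refine CartesianMonoidalCategory.hom_ext _ _ ?_ ?_
      · simpa using e.symm
      · simp
  have h2 : IsPullback ((a ▷ G) ≫ (E ◁ u) ≫ μ[E]) (fst T G) v q := by
    have := h1.paste_horiz hex.2.2.2.1.flip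
    rwa [haq] at this
  have h4 : P (fst T G).left :=
    MorphismProperty.of_isPullback (P := P)
      (show IsPullback (snd T G).left (fst T G).left G.hom T.hom from (IsPullback.of_hasPullback T.hom G.hom).flip) hP
  exact MorphismProperty.of_isPullback_of_descendsAlong
    (Q := @Surjective ⊓ @Flat ⊓ @LocallyOfFinitePresentation) (h2.map (Over.forget S)).flip ⟨⟨hg1, hg2⟩, hg3⟩ h4

end Groth.L19.ExtGm
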