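import Groth.Agent.L19.ExtGm.Weight
import Groth.Agent.L25.Char.Split
import Groth.Agent.L25.MultType.Diag
import Mathlib.RingTheory.TensorProduct.Free
import Mathlib.RingTheory.Localization.Away.Basic

/-!
# Group-like elements of a weight in the diagonalisable case
-/

set_option autoImplicit false

universe u v

open TensorProduct
open Groth.L25.MultType (coefL coefL_apply coefL_single scalarBialg scalarHom scalarHom_single)
open Groth.L25.Char (mapT splitElem isGL_splitElem isGL_iff coeff_mul_coeff)

noncomputable section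

namespace Groth.L19.ExtGm

variable {R : Type u} [CommRing R] {A : Type u} [CommRing A] [HopfAlgebra R A]
  {M : Type v} [CommGroup M] (q : A →ₐc[R] MonoidAlgebra R M) (t : M)

/-- If a base change is diagonalisable there are group-like elements of weight `t` after localisation. -/
theorem exists_groupLike_of_split {y : A} (hy : q y = MonoidAlgebra.single t 1)
    {T₀ : Type u} [CommRing T₀] [Algebra R T₀] {N : Type u} [CommGroup N]
    (e : T₀ ⊗[R] A ≃ₐc[T₀] MonoidAlgebra T₀ N) (p : PrimeSpectrum T₀) :
    ∃ c : T₀, c ∉ p.asIdeal ∧ ∃ g : GroupLike (Localization.Away c) ((Localization.Away c) ⊗[R] A),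
      Algebra.TensorProduct.map (AlgHom.id R (Localization.Away c)) (q : A →ₐ[R] MonoidAlgebra R M) g.val =
        1 ⊗ₜ MonoidAlgebra.single t 1 := by
  classical
  let Q : T₀ ⊗[R] A →ₐc[T₀] MonoidAlgebra T₀ M :=
    ((scalarBialg R T₀ M).symm : T₀ ⊗[R] MonoidAlgebra R M →ₐc[T₀] MonoidAlgebra T₀ M).comp
      (Bialgebra.TensorProduct.map (BialgHom.id T₀ T₀) q)
  have hQ : ∀ z : T₀ ⊗[R] A, scalarHom R T₀ M (Q z) =
      Algebra.TensorProduct.map (AlgHom.id R T₀) (q : A →ₐ[R] MonoidAlgebra R M) z := by
    intro z
    refine ((scalarBialg R T₀ M).apply_symm_apply _).trans ?_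
    induction z using TensorProduct.induction_on with
    | zero => simp
    | add x y hx hy => simp only [map_add, hx, hy]
    | tmul a b => simp
  let x : N → MonoidAlgebra T₀ M := fun n => Q (splitElem e n)
  have hx : ∀ n, IsGroupLikeElem T₀ (x n) := fun n =>
    ((isGL_iff R A T₀ _).1 (isGL_splitElem e n)).map Q
  -- some coefficient of weight `t` is invertible at `p`
  obtain ⟨n, hn⟩ : ∃ n, (x n).coeff t ∉ p.asIdeal := by
    by_contra! hall
    have hz : ∀ w : MonoidAlgebra T₀ N, (Q (e.symm w)).coeff t ∈ p.asIdeal := by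
      intro w
      induction w using MonoidAlgebra.induction_linear with
      | zero => simp
      | add v w hv hw =>
        rw [map_add, map_add, MonoidAlgebra.coeff_add, Finsupp.add_apply]
        exact add_mem hv hw
      | single n r =>
        have h1 : MonoidAlgebra.single n r = r • MonoidAlgebra.single n (1 : T₀) := by
          rw [MonoidAlgebra.smul_single', _root_.mul_one]
        rw [h1, map_smul, map_smul, MonoidAlgebra.coeff_smul, Finsupp.smul_apply, smul_eq_mul]
        exact Ideal.mul_mem_left _ _ (hall n)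
    have h2 := hz (e ((1 : T₀) ⊗ₜ y))
    rw [e.symm_apply_apply] at h2
    have h3 : Q ((1 : T₀) ⊗ₜ y) = MonoidAlgebra.single t 1 := by
      apply (Groth.L25.MultType.scalarHom_bijective R T₀ M).1
      rw [hQ, Algebra.TensorProduct.map_tmul, AlgHom.id_apply, scalarHom_single]
      exact congrArg _ hy
    rw [h3, MonoidAlgebra.coeff_single, Finsupp.single_eq_same] at h2
    exact p.2.ne_top ((Ideal.eq_top_iff_one _).2 h2)
  refine ⟨(x n).coeff t, hn, ?_⟩
  let T := Localization.Away ((x n).coeff t)
  haveI : IsScalarTower R T₀ T := inferInstance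
  let f : T₀ →ₐ[R] T := IsScalarTower.toAlgHom R T₀ T
  refine ⟨⟨mapT R A f (splitElem e n), (isGL_iff R A T _).1 ((isGL_splitElem e n).map f)⟩, ?_⟩
  show Algebra.TensorProduct.map (AlgHom.id R T) (q : A →ₐ[R] MonoidAlgebra R M) (mapT R A f (splitElem e n)) = _
  have hnat : ∀ z : T₀ ⊗[R] A,
      Algebra.TensorProduct.map (AlgHom.id R T) (q : A →ₐ[R] MonoidAlgebra R M) (mapT R A f z) =
        Algebra.TensorProduct.map f (AlgHom.id R (MonoidAlgebra R M))
          (Algebra.TensorProduct.map (AlgHom.id R T₀) (q : A →ₐ[R] MonoidAlgebra R M) z) := by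
    intro z
    induction z using TensorProduct.induction_on with
    | zero => simp
    | add x y hx hy => simp only [map_add, hx, hy]
    | tmul a b => simp
  rw [hnat, ← hQ]
  have hu : IsUnit (algebraMap T₀ T ((x n).coeff t)) := IsLocalization.Away.algebraMap_isUnit _
  have h1 : algebraMap T₀ T ((x n).coeff t) = 1 :=
    (IsIdempotentElem.iff_eq_one_of_isUnit hu).1
      ((Groth.L25.Char.isIdempotentElem_coeff (hx n) t).map (algebraMap T₀ T))
  have h0 : ∀ m, m ≠ t → algebraMap T₀ T ((x n).coeff m) = 0 := by
    intro m hm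
    have h := congrArg (algebraMap T₀ T) (coeff_mul_coeff (hx n) m t)
    rwa [if_neg hm, map_mul, h1, _root_.mul_one, map_zero] at h
  show Algebra.TensorProduct.map f (AlgHom.id R (MonoidAlgebra R M)) (scalarHom R T₀ M (x n)) = _
  refine (congrArg (fun w => Algebra.TensorProduct.map f (AlgHom.id R (MonoidAlgebra R M)) (scalarHom R T₀ M w))
    (MonoidAlgebra.sum_coeff_single (x n)).symm).trans ?_
  rw [Finsupp.sum, map_sum, map_sum]
  simp only [scalarHom_single, Algebra.TensorProduct.map_tmul, AlgHom.id_apply]
  rw [Finset.sum_eq_single t]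
  · exact congrArg (· ⊗ₜ[R] MonoidAlgebra.single t (1 : R)) h1
  · intro m _ hm
    rw [show f ((x n).coeff m) = 0 from h0 m hm, TensorProduct.zero_tmul]
  · intro ht
    rw [show f ((x n).coeff t) = 0 from (congrArg f (Finsupp.notMem_support_iff.1 ht)).trans (map_zero f),
      TensorProduct.zero_tmul]

end Groth.L19.ExtGm
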