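import Groth.Agent.L19.ExtGm.Finite
import Groth.Agent.L19.ExtGm.Split
import Groth.Agent.L19.ExtGm.Exact
import Groth.Agent.L25.Bridge.Spec
import Groth.Agent.L25.Bridge.Lift
import Mathlib.AlgebraicGeometry.Group.Affine
import Mathlib.RingTheory.HopfAlgebra.GroupLike
import Mathlib.Algebra.Polynomial.AlgebraMap

/-!
# Affine translation: characters with prescribed restriction
-/

set_option autoImplicit false
set_option linter.style.haveILetI false
set_option backward.isDefEq.respectTransparency.types false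

universe u

open CategoryTheory CategoryTheory.Limits MonoidalCategory CartesianMonoidalCategory MonObj AlgebraicGeometry
open TensorProduct WithConv
open Groth.L25.Bridge (P)

noncomputable section

namespace Groth.L19.ExtGm

variable {R : Type u} [CommRing R] {A B : Type u} [CommRing A] [HopfAlgebra R A] [CommRing B] [HopfAlgebra R B]

/-- The morphism of a bialgebra map. -/
abbrev spm (f : A →ₐc[R] B) : P R B ⟶ P R A := Spec.mapMulEquiv (toConv (f : A →ₐ[R] B))

instance isMonHom_spm (f : A →ₐc[R] B) : IsMonHom (spm f) :=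
  ((hopfSpec (CommRingCat.of R)).map (CommHopfAlgCat.ofHom f).op).hom.isMonHom_hom

theorem spm_comp {C : Type u} [CommRing C] [HopfAlgebra R C] (f : A →ₐc[R] B) (g : B →ₐc[R] C) :
    spm g ≫ spm f = spm (g.comp f) :=
  Over.OverMorphism.ext (Spec.map_comp _ _).symm

theorem spm_id : spm (BialgHom.id R A) = 𝟙 (P R A) := Over.OverMorphism.ext (Spec.map_id _)

theorem exists_bialgHom (f : P R B ⟶ P R A) [IsMonHom f] : ∃ φ : A →ₐc[R] B, spm φ = f := by
  let F : Grp.mk (P R B) ⟶ Grp.mk (P R A) := Grp.ofHom f
  let φ := (hopfSpec.fullyFaithful (R := CommRingCat.of R)).preimage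
    (X := Opposite.op (CommHopfAlgCat.of R B)) (Y := Opposite.op (CommHopfAlgCat.of R A)) F
  refine ⟨φ.unop.hom, ?_⟩
  have h : (hopfSpec (CommRingCat.of R)).map φ = F := Functor.FullyFaithful.map_preimage _ _
  exact congr($(h).hom.hom)

theorem bcIso_natural (L : Type u) [CommRing L] [Algebra R L] (f : B →ₐc[R] A) :
    (Over.pullback (Spec.map (CommRingCat.ofHom (algebraMap R L)))).map (spm f) ≫
        (Groth.L25.Bridge.bcIso R B L).hom.hom.hom =
      (Groth.L25.Bridge.bcIso R A L).hom.hom.hom ≫ spm (Bialgebra.TensorProduct.map (BialgHom.id L L) f) := by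
  refine Over.OverMorphism.ext ?_
  let g : pullback (Spec (CommRingCat.of A) ↘ Spec (CommRingCat.of R))
      (Spec (CommRingCat.of L) ↘ Spec (CommRingCat.of R)) ⟶
      pullback (Spec (CommRingCat.of B) ↘ Spec (CommRingCat.of R))
        (Spec (CommRingCat.of L) ↘ Spec (CommRingCat.of R)) :=
    ((Over.pullback (Spec.map (CommRingCat.ofHom (algebraMap R L)))).map (spm f)).left
  show g ≫ (pullbackSymmetry _ _ ≪≫ pullbackSpecIso' R L B).hom =
    (pullbackSymmetry _ _ ≪≫ pullbackSpecIso' R L A).hom ≫
      Spec.map (CommRingCat.ofHom ((Bialgebra.TensorProduct.map (BialgHom.id L L) f :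
        (L ⊗[R] B) →ₐc[L] (L ⊗[R] A)) : (L ⊗[R] B) →+* (L ⊗[R] A)))
  rw [← cancel_mono ((pullbackSymmetry _ _ ≪≫ pullbackSpecIso' R L B).inv),
    ← cancel_epi ((pullbackSymmetry _ _ ≪≫ pullbackSpecIso' R L A).inv)]
  simp only [Category.assoc, Iso.trans_hom, Iso.trans_inv, Iso.hom_inv_id, Category.comp_id, Iso.inv_hom_id_assoc,
    Iso.hom_inv_id_assoc]
  have eA1 : (pullbackSpecIso' R L A).inv ≫ pullback.fst _ _ =
      Spec.map (CommRingCat.ofHom (Algebra.TensorProduct.includeLeftRingHom (R := R) (A := L) (B := A))) :=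
    pullbackSpecIso_inv_fst R L A
  have eA2 : (pullbackSpecIso' R L A).inv ≫ pullback.snd _ _ =
      Spec.map (CommRingCat.ofHom ((Algebra.TensorProduct.includeRight : A →ₐ[R] L ⊗[R] A) : A →+* L ⊗[R] A)) :=
    pullbackSpecIso_inv_snd R L A
  have eB1 : (pullbackSpecIso' R L B).inv ≫ pullback.fst _ _ =
      Spec.map (CommRingCat.ofHom (Algebra.TensorProduct.includeLeftRingHom (R := R) (A := L) (B := B))) :=
    pullbackSpecIso_inv_fst R L B
  have eB2 : (pullbackSpecIso' R L B).inv ≫ pullback.snd _ _ =
      Spec.map (CommRingCat.ofHom ((Algebra.TensorProduct.includeRight : B →ₐ[R] L ⊗[R] B) : B →+* L ⊗[R] B)) :=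
    pullbackSpecIso_inv_snd R L B
  apply pullback.hom_ext
  · simp only [Category.assoc]
    rw [show g ≫ pullback.fst _ _ = pullback.fst _ _ ≫ Spec.map (CommRingCat.ofHom (f : B →+* A)) from
      pullback.lift_fst _ _ _]
    simp only [pullbackSymmetry_inv_comp_fst, pullbackSymmetry_inv_comp_fst_assoc]
    rw [reassoc_of% eA2, eB2]
    simp only [← Spec.map_comp]
    congr 1
  · simp only [Category.assoc]
    rw [show g ≫ pullback.snd _ _ = pullback.snd _ _ from pullback.lift_snd _ _ _]
    simp only [pullbackSymmetry_inv_comp_snd]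
    rw [eA1, eB1]
    simp only [← Spec.map_comp]
    congr 1
    refine CommRingCat.hom_ext (RingHom.ext fun c => ?_)
    show c ⊗ₜ[R] (1 : A) = Bialgebra.TensorProduct.map (BialgHom.id L L) f (c ⊗ₜ 1)
    simp

/-- A kernel is cut out by a surjection when the quotient is separated. -/
theorem surjective_of_kernel {u : P R B ⟶ P R A} [IsMonHom u] (φ : A →ₐc[R] B) (hφ : spm φ = u)
    {Q : Over (Spec (CommRingCat.of R))} [GrpObj Q] [IsSeparated Q.hom] {v : P R A ⟶ Q} [IsMonHom v]
    (h : PtExact u v) : Function.Surjective φ := by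
  have hsq : IsPullback u (toUnit _) v η[Q] := by
    refine IsPullback.mk' ?_ (fun T a b e _ => h.inj T a b e) fun T x y e => ?_
    · rw [h.comp, Hom.one_def]
    · obtain ⟨g, hg⟩ := h.lift T 1 x (by
        rw [MonObj.one_comp, e, Hom.one_def, Subsingleton.elim y (toUnit T)])
      exact ⟨g, by rwa [_root_.one_mul] at hg, Subsingleton.elim _ _⟩
  haveI : IsClosedImmersion η[Q].left := by
    haveI : IsClosedImmersion (η[Q].left ≫ Q.hom) := by
      rw [Over.w η[Q]]
      exact inferInstanceAs (IsClosedImmersion (𝟙 (Spec (CommRingCat.of R))))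
    exact IsClosedImmersion.of_comp η[Q].left Q.hom
  haveI : IsClosedImmersion u.left :=
    MorphismProperty.of_isPullback (P := @IsClosedImmersion) (hsq.map (Over.forget _)).flip ‹_›
  haveI : IsClosedImmersion (Spec.map (CommRingCat.ofHom (φ : A →+* B))) := by
    have : IsClosedImmersion (spm φ).left := by rw [hφ]; infer_instance
    exact this
  have hs := (IsClosedImmersion.isAffine_surjective_of_isAffine
    (Spec.map (CommRingCat.ofHom (φ : A →+* B)))).2
  intro b
  obtain ⟨a, ha⟩ := hs ((Scheme.ΓSpecIso (CommRingCat.of B)).inv b)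
  refine ⟨(Scheme.ΓSpecIso (CommRingCat.of A)).hom a, ?_⟩
  have hn := Scheme.ΓSpecIso_naturality (CommRingCat.ofHom (φ : A →+* B))
  have hn2 := congr($(hn).hom a)
  simp only [CommRingCat.hom_comp, RingHom.comp_apply] at hn2
  rw [ha] at hn2
  refine hn2.symm.trans ?_
  exact congr($((Scheme.ΓSpecIso (CommRingCat.of B)).inv_hom_id).hom b)

variable {M : Type} [CommGroup M] (q : A →ₐc[R] MonoidAlgebra R M)

/-- Invariant functions come from the quotient. -/
theorem mem_range_of_invariant {v : P R A ⟶ P R B} {ψ : B →ₐc[R] A} (hψ : spm ψ = v)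
    (h : PtExact (spm q) v) {a : A} (ha : a ∈ part q 1) : ∃ b : B, ψ b = a := by
  classical
  let X : Over (Spec (CommRingCat.of R)) :=
    Over.mk (Spec.map (CommRingCat.ofHom (algebraMap R (Polynomial R))))
  let f : P R A ⟶ X := Over.homMk (Spec.map (CommRingCat.ofHom (Polynomial.aeval a).toRingHom)) (by
    show Spec.map _ ≫ Spec.map _ = Spec.map _
    rw [← Spec.map_comp]
    congr 1
    ext r
    exact (Polynomial.aeval a).commutes r)
  let C := MonoidAlgebra R M
  let inl : A →ₐ[R] A ⊗[R] C := Algebra.TensorProduct.includeLeft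
  let inr : C →ₐ[R] A ⊗[R] C := Algebra.TensorProduct.includeRight
  have hco : ((toConv inl * toConv (inr.comp (q : A →ₐ[R] C))) : WithConv (A →ₐ[R] A ⊗[R] C)).ofConv a =
      a ⊗ₜ 1 := by
    rw [AlgHom.convMul_apply]
    have h1 := comul_proj q 1 a
    rw [proj_of_mem q ha] at h1
    rw [h1]
    have h2 : ∀ z : A ⊗[R] A,
        Algebra.TensorProduct.lift inl (inr.comp (q : A →ₐ[R] C)) (fun _ _ => Commute.all _ _)
          ((proj q 1).lTensor A z) = wev q 1 z ⊗ₜ 1 := by
      intro z
      induction z using TensorProduct.induction_on with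
      | zero => simp
      | add x y hx hy => simp only [map_add, TensorProduct.add_tmul, hx, hy]
      | tmul x y =>
        rw [LinearMap.lTensor_tmul, Algebra.TensorProduct.lift_tmul, wev_tmul, TensorProduct.smul_tmul]
        show (x ⊗ₜ[R] (1 : C)) * ((1 : A) ⊗ₜ[R] q (proj q 1 y)) = _
        rw [Algebra.TensorProduct.tmul_mul_tmul, _root_.one_mul, _root_.mul_one, map_proj,
          MonoidAlgebra.one_def, MonoidAlgebra.smul_single', _root_.mul_one]
    rw [h2]
    rw [← proj_apply, proj_of_mem q ha]
  let W : Over (Spec (CommRingCat.of R)) :=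
    (Spec (CommRingCat.of (A ⊗[R] C))).asOver (Spec (CommRingCat.of R))
  let pA : W ⟶ P R A := Spec.mapMulEquiv (toConv inl)
  let pC : W ⟶ P R C := Spec.mapMulEquiv (toConv inr)
  haveI : IsIso (lift pA pC) := by
    haveI : IsIso (lift pA pC).left := by
      have e : (lift pA pC).left = (pullbackSpecIso R A C).inv := by
        apply pullback.hom_ext
        · exact (congrArg CommaMorphism.left (lift_fst pA pC)).trans (pullbackSpecIso_inv_fst R A C).symm
        · exact (congrArg CommaMorphism.left (lift_snd pA pC)).trans (pullbackSpecIso_inv_snd R A C).symm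
      rw [e]; infer_instance
    haveI : IsIso ((Over.forget _).map (lift pA pC)) := ‹_›
    exact isIso_of_reflects_iso _ (Over.forget _)
  have huniv : (fst (P R A) (P R C) * (snd (P R A) (P R C) ≫ spm q)) ≫ f = fst (P R A) (P R C) ≫ f := by
    rw [← cancel_epi (lift pA pC), ← Category.assoc, ← Category.assoc, MonObj.comp_mul, lift_fst,
      lift_snd_assoc]
    have e : pC ≫ spm q = Spec.mapMulEquiv (toConv (inr.comp (q : A →ₐ[R] C))) :=
      Over.OverMorphism.ext (Spec.map_comp _ _).symm
    rw [e, ← map_mul]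
    refine Over.OverMorphism.ext ?_
    show Spec.map _ ≫ Spec.map _ = Spec.map _ ≫ Spec.map _
    rw [← Spec.map_comp, ← Spec.map_comp]
    congr 1
    refine CommRingCat.hom_ext (Polynomial.ringHom_ext (fun r => ?_) ?_)
    · show ((toConv inl * toConv (inr.comp (q : A →ₐ[R] C))) : WithConv (A →ₐ[R] A ⊗[R] C)).ofConv
        (Polynomial.aeval a (Polynomial.C r)) = inl (Polynomial.aeval a (Polynomial.C r))
      rw [Polynomial.aeval_C, AlgHom.commutes, AlgHom.commutes]
    · show ((toConv inl * toConv (inr.comp (q : A →ₐ[R] C))) : WithConv (A →ₐ[R] A ⊗[R] C)).ofConv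
        (Polynomial.aeval a Polynomial.X) = inl (Polynomial.aeval a Polynomial.X)
      rw [Polynomial.aeval_X]
      exact hco
  obtain ⟨f', hf'⟩ := Groth.L28.Ext.descend h.cov f fun T x y e => by
    obtain ⟨g, rfl⟩ := h.lift T x y e
    have h1 := congrArg (lift x g ≫ ·) huniv
    rw [← Category.assoc, ← Category.assoc, MonObj.comp_mul, ← Category.assoc (lift x g) (snd _ _),
      lift_fst, lift_snd] at h1
    exact h1.symm
  obtain ⟨γ, hγ⟩ := Spec.map_surjective f'.left
  refine ⟨γ.hom Polynomial.X, ?_⟩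
  have h3 : v.left ≫ f'.left = f.left := congrArg CommaMorphism.left hf'
  rw [← hψ, ← hγ] at h3
  have h4 : γ ≫ CommRingCat.ofHom (ψ : B →+* A) = CommRingCat.ofHom (Polynomial.aeval a).toRingHom :=
    Spec.map_injective ((Spec.map_comp _ _).trans h3)
  exact (congr($(h4).hom Polynomial.X)).trans (Polynomial.aeval_X a)

/-- A projection which is locally surjective induces an injection on functions. -/
theorem injective_of_cov {v : P R A ⟶ P R B} {ψ : B →ₐc[R] A} (hψ : spm ψ = v)
    (h : Groth.L28.Ext.Cov v) : Function.Injective ψ := by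
  intro b b' e
  let X : Over (Spec (CommRingCat.of R)) :=
    Over.mk (Spec.map (CommRingCat.ofHom (algebraMap R (Polynomial R))))
  let f : ∀ c : B, P R B ⟶ X := fun c =>
    Over.homMk (Spec.map (CommRingCat.ofHom (Polynomial.aeval c).toRingHom)) (by
      show Spec.map _ ≫ Spec.map _ = Spec.map _
      rw [← Spec.map_comp]
      congr 1
      ext r
      exact (Polynomial.aeval c).commutes r)
  have h1 : f b = f b' := by
    refine Groth.L28.Ext.cancel h ?_
    rw [← hψ]
    refine Over.OverMorphism.ext ?_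
    show Spec.map _ ≫ Spec.map _ = Spec.map _ ≫ Spec.map _
    rw [← Spec.map_comp, ← Spec.map_comp]
    congr 1
    refine CommRingCat.hom_ext (Polynomial.ringHom_ext (fun r => ?_) ?_)
    · show ψ (Polynomial.aeval b (Polynomial.C r)) = ψ (Polynomial.aeval b' (Polynomial.C r))
      rw [Polynomial.aeval_C, Polynomial.aeval_C]
    · show ψ (Polynomial.aeval b Polynomial.X) = ψ (Polynomial.aeval b' Polynomial.X)
      rw [Polynomial.aeval_X, Polynomial.aeval_X, e]
  have h2 := congr($(Spec.map_injective (congrArg CommaMorphism.left h1)).hom Polynomial.X)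
  exact (Polynomial.aeval_X b).symm.trans (h2.trans (Polynomial.aeval_X b'))

/-- A group-like element of the prescribed weight is a character with the prescribed restriction. -/
theorem exists_retraction_hom {T : Type u} [CommRing T] [Algebra R T]
    (q : A →ₐc[R] MonoidAlgebra R (Multiplicative ℤ)) (g : GroupLike T (T ⊗[R] A))
    (hg : Algebra.TensorProduct.map (AlgHom.id R T) (q : A →ₐ[R] MonoidAlgebra R (Multiplicative ℤ)) g.val =
      1 ⊗ₜ MonoidAlgebra.single (Multiplicative.ofAdd 1) 1) :
    ∃ h : T ⊗[R] MonoidAlgebra R (Multiplicative ℤ) →ₐc[T] T ⊗[R] A,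
      (Bialgebra.TensorProduct.map (BialgHom.id T T) q).comp h = BialgHom.id T _ := by
  classical
  let C := MonoidAlgebra R (Multiplicative ℤ)
  let e := Groth.L25.MultType.scalarBialg R T (Multiplicative ℤ)
  let ν : Multiplicative ℤ →* GroupLike T (T ⊗[R] A) := zpowersHom _ g
  let Hh : MonoidAlgebra T (Multiplicative ℤ) →ₐc[T] T ⊗[R] A :=
    MonoidAlgebra.liftGroupLikeBialgHom.comp (MonoidAlgebra.mapDomainBialgHom T ν)
  refine ⟨Hh.comp (e.symm : T ⊗[R] C →ₐc[T] MonoidAlgebra T (Multiplicative ℤ)), ?_⟩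
  let μq : GroupLike T (T ⊗[R] A) →* GroupLike T (T ⊗[R] C) :=
    { toFun := fun x => ⟨Bialgebra.TensorProduct.map (BialgHom.id T T) q x.val, x.2.map _⟩
      map_one' := GroupLike.ext (map_one (Bialgebra.TensorProduct.map (BialgHom.id T T) q))
      map_mul' := fun x y => GroupLike.ext (map_mul (Bialgebra.TensorProduct.map (BialgHom.id T T) q) _ _) }
  have hmap : ∀ z : T ⊗[R] A, Bialgebra.TensorProduct.map (BialgHom.id T T) q z =
      Algebra.TensorProduct.map (AlgHom.id R T) (q : A →ₐ[R] C) z := by
    intro z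
    induction z using TensorProduct.induction_on with
    | zero => simp
    | add x y hx hy => simp only [map_add, hx, hy]
    | tmul a b => simp
  have hν : μq.comp ν = Groth.L25.MultType.tmulOf R T (Multiplicative ℤ) := by
    refine MonoidHom.ext_mint (GroupLike.ext ?_)
    show Bialgebra.TensorProduct.map (BialgHom.id T T) q (ν (Multiplicative.ofAdd 1)).val = _
    rw [show ν (Multiplicative.ofAdd 1) = g from by simp [ν], hmap, hg]
    rfl
  refine BialgHom.ext fun z => ?_
  obtain ⟨w, rfl⟩ := (Groth.L25.MultType.scalarHom_bijective R T (Multiplicative ℤ)).2 z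
  show Bialgebra.TensorProduct.map (BialgHom.id T T) q (Hh (e.symm (e w))) = e w
  rw [e.symm_apply_apply]
  induction w using MonoidAlgebra.induction_linear with
  | zero => simp
  | add x y hx hy => simp only [map_add, hx, hy]
  | single n r =>
    have hn := congrArg (fun k : Multiplicative ℤ →* GroupLike T (T ⊗[R] C) => (k n).val) hν
    change Bialgebra.TensorProduct.map (BialgHom.id T T) q (ν n).val = (1 : T) ⊗ₜ MonoidAlgebra.single n (1 : R)
      at hn
    have hH : Hh (MonoidAlgebra.single n r) = r • (ν n).val := by simp [Hh]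
    rw [hH, map_smul, hn, TensorProduct.smul_tmul', smul_eq_mul, _root_.mul_one]
    exact (Groth.L25.MultType.scalarHom_single R T (Multiplicative ℤ) n r).symm

end Groth.L19.ExtGm
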