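import Groth.Agent.L19.ExtGm.Universal

/-!
# Finiteness of the weight parts
-/

set_option autoImplicit false

universe u v

open TensorProduct

noncomputable section

namespace Groth.L19.ExtGm

variable {R : Type u} [CommRing R] {A : Type u} [CommRing A] [HopfAlgebra R A]
  {M : Type v} [CommGroup M] (q : A →ₐc[R] MonoidAlgebra R M)

/-- The weight parts are finite projective when the invariant part comes from a finite projective module. -/
theorem finite_projective_part {t : M} {y : A} (hy : q y = MonoidAlgebra.single t 1) {B : Type u} [AddCommGroup B]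
    [Module R B] [Module.Finite R B] [Module.Projective R B] (f : B →ₗ[R] A) (hf : Function.Injective f)
    (h0 : ∀ a ∈ part q 1, a ∈ LinearMap.range f) :
    Module.Finite R (part q t) ∧ Module.Projective R (part q t) := by
  classical
  let e := LinearEquiv.ofInjective f hf
  let i0 : part q (1 : M) →ₗ[R] B :=
    e.symm.toLinearMap ∘ₗ LinearMap.codRestrict _ (part q (1 : M)).subtype fun a => h0 a.1 a.2
  let p0 : B →ₗ[R] part q (1 : M) := (proj q 1).rangeRestrict ∘ₗ f
  have hp0 : p0 ∘ₗ i0 = LinearMap.id := by
    refine LinearMap.ext fun a => Subtype.ext ?_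
    show proj q 1 (f (e.symm ⟨a.1, h0 a.1 a.2⟩)) = a.1
    rw [show f (e.symm ⟨a.1, h0 a.1 a.2⟩) = a.1 from congrArg Subtype.val (e.apply_symm_apply _)]
    exact proj_of_mem q a.2
  haveI : Module.Finite R (part q (1 : M)) :=
    Module.Finite.of_surjective p0 fun a => ⟨i0 a, LinearMap.congr_fun hp0 a⟩
  haveI : Module.Projective R (part q (1 : M)) := Module.Projective.of_split i0 p0 hp0
  obtain ⟨N, a, b, ha, hb, hab⟩ := exists_sum_eq_one q hy
  let s : part q t →ₗ[R] (Fin N → part q (1 : M)) :=
    LinearMap.pi fun i => LinearMap.codRestrict _ (LinearMap.mulRight R (b i) ∘ₗ (part q t).subtype) fun l => by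
      rw [← mul_inv_cancel t]
      exact mul_mem_part q l.2 (hb i)
  let r : (Fin N → part q (1 : M)) →ₗ[R] part q t :=
    ∑ i, (LinearMap.codRestrict (part q t) (LinearMap.mulRight R (a i) ∘ₗ (part q (1 : M)).subtype) fun c => by
      have h := mul_mem_part q c.2 (ha i)
      rwa [_root_.one_mul] at h) ∘ₗ LinearMap.proj i
  have hrs : r ∘ₗ s = LinearMap.id := by
    refine LinearMap.ext fun l => Subtype.ext ?_
    simp only [r, s, LinearMap.comp_apply, LinearMap.sum_apply, AddSubmonoidClass.coe_finsetSum]
    show ∑ i, l.1 * b i * a i = l.1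
    simp only [_root_.mul_assoc, ← Finset.mul_sum, hab, _root_.mul_one]
  haveI : Module.Projective R (Fin N → part q (1 : M)) :=
    Module.Projective.of_equiv (DFinsupp.linearEquivFunOnFintype (R := R) (M := fun _ : Fin N => part q (1 : M)))
  exact ⟨Module.Finite.of_surjective r fun l => ⟨s l, LinearMap.congr_fun hrs l⟩,
    Module.Projective.of_split s r hrs⟩

end Groth.L19.ExtGm
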