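import Groth.Agent.L19.ExtGm.Main
import Groth.Agent.L25.RedField.CentralChar
import Groth.Prelude.Def_ActBC

/-!
# Extensions of finite or multiplicative groups by `Gm` split fppf-locally
-/

set_option autoImplicit false
set_option linter.style.haveILetI false
set_option backward.isDefEq.respectTransparency.types false

universe u

open CategoryTheory CategoryTheory.Limits MonoidalCategory CartesianMonoidalCategory MonObj AlgebraicGeometry
open Groth.L25.Bridge (P)

noncomputable section

namespace Groth.L19.ExtGm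

variable {S : Scheme.{u}}

/-- The underlying isomorphism of an isomorphism of groups. -/
def overIso {X Y : Over S} [GrpObj X] [GrpObj Y] (e : Grp.mk X ≅ Grp.mk Y) : X ≅ Y where
  hom := e.hom.hom.hom
  inv := e.inv.hom.hom
  hom_inv_id := congr($(e.hom_inv_id).hom.hom)
  inv_hom_id := congr($(e.inv_hom_id).hom.hom)

instance isMonHom_overIso_hom {X Y : Over S} [GrpObj X] [GrpObj Y] (e : Grp.mk X ≅ Grp.mk Y) :
    IsMonHom (overIso e).hom := e.hom.hom.isMonHom_hom

instance isMonHom_overIso_inv {X Y : Over S} [GrpObj X] [GrpObj Y] (e : Grp.mk X ≅ Grp.mk Y) :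
    IsMonHom (overIso e).inv := e.inv.hom.isMonHom_hom

/-- An exact sequence is an extension. -/
theorem PtExact.isExt {G E Q : Over S} [GrpObj G] [GrpObj E] [GrpObj Q] {u : G ⟶ E} {v : E ⟶ Q}
    [IsMonHom v] (h : PtExact u v) (hv : Groth.L25.Covers.Cov v) : Groth.L25.Extension.IsExt u v where
  mono := ⟨fun a b e => h.inj _ a b e⟩
  comp := h.comp
  ker X a ha := by
    obtain ⟨g, hg⟩ := h.lift X 1 a (by rw [MonObj.one_comp, ha])
    exact ⟨g, by rwa [_root_.one_mul] at hg⟩
  cov := hv

/-- The projection has surjective underlying map. -/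
theorem surjective_of_exact {G E Q : Over S} [GrpObj G] [GrpObj E] [GrpObj Q] {u : G ⟶ E} {v : E ⟶ Q}
    (hex : NonAbH1.IsExactSeq Scheme.fppfPrecoverage u v) : Surjective v.left := by
  obtain ⟨P', g, s, hg, -, -, hs⟩ := Groth.L28.Ext.exists_fppf_section v hex.2.2.2.2
  refine ⟨fun x => ?_⟩
  obtain ⟨z, hz⟩ := hg.surj x
  exact ⟨s z, by rw [← Scheme.Hom.comp_apply, hs, hz]⟩

/-- The affine case, for abstract affine groups. -/
theorem exists_section_of_isAffine {R : Type u} [CommRing R] {G E Q : Over (Spec (CommRingCat.of R))}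
    [GrpObj G] [GrpObj E] [GrpObj Q] [IsAffine E.left] [IsAffine Q.left]
    (eG : Grp.mk G ≅ Grp.mk (P R (MonoidAlgebra R (Multiplicative ℤ))))
    (hG : SGA3x.IsMultTypeFT G) (hE : ∀ (X : Over (Spec (CommRingCat.of R))) (a b : X ⟶ E), a * b = b * a)
    {u : G ⟶ E} {v : E ⟶ Q} [IsMonHom u] [IsMonHom v] (h : PtExact u v) (hv : Groth.L25.Covers.Cov v)
    (hQ : (IsFinite Q.hom ∧ Flat Q.hom ∧ LocallyOfFinitePresentation Q.hom) ∨ SGA3x.IsMultTypeFT Q)
    (p : PrimeSpectrum R) :
    ∃ (T : Type u) (_ : CommRing T) (_ : Algebra R T), Module.Flat R T ∧ Algebra.FinitePresentation R T ∧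
      p ∈ Set.range (PrimeSpectrum.comap (algebraMap R T)) ∧
      ∃ σ : Red.bc (Spec.map (CommRingCat.ofHom (algebraMap R T))) Q ⟶
          Red.bc (Spec.map (CommRingCat.ofHom (algebraMap R T))) E,
        IsMonHom σ ∧ σ ≫ (Over.pullback (Spec.map (CommRingCat.ofHom (algebraMap R T)))).map v = 𝟙 _ := by
  obtain ⟨A, _, _, ⟨eE⟩⟩ := Groth.L25.Bridge.exists_hopf (R := R) E
  obtain ⟨B, _, _, ⟨eQ⟩⟩ := Groth.L25.Bridge.exists_hopf (R := R) Q
  have hA := Groth.L25.Extension.comm_of_iso eE hE
  haveI := Groth.L25.Extension.isCocomm_of_comm R A hA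
  haveI : IsCommMonObj (P R A) := Groth.L25.RedField.isCommMonObj_of_points _ hA
  obtain ⟨q, hq⟩ := exists_bialgHom ((overIso eG).inv ≫ u ≫ (overIso eE).hom)
  obtain ⟨ψ, hψ⟩ := exists_bialgHom ((overIso eE).inv ≫ v ≫ (overIso eQ).hom)
  have h' : PtExact (spm q) (spm ψ) := by
    rw [hq, hψ]
    exact h.of_iso (overIso eG).symm (overIso eE) (overIso eQ)
  have hB : (Module.Finite R B ∧ Module.Projective R B) ∨
      (SGA3b.IsMultType R A ∧ Algebra.FiniteType R A) := by
    rcases hQ with ⟨h1, h2, h3⟩ | hQ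
    · left
      have e : (overIso eQ).inv.left ≫ Q.hom = Spec.map (CommRingCat.ofHom (algebraMap R B)) := Over.w _
      haveI : IsIso (overIso eQ).inv.left :=
        inferInstanceAs (IsIso ((Over.forget _).map (overIso eQ).inv))
      have hf : IsFinite (Spec.map (CommRingCat.ofHom (algebraMap R B))) :=
        e ▸ (MorphismProperty.cancel_left_of_respectsIso @IsFinite (overIso eQ).inv.left Q.hom).2 h1
      have hfl : Flat (Spec.map (CommRingCat.ofHom (algebraMap R B))) :=
        e ▸ (MorphismProperty.cancel_left_of_respectsIso @Flat (overIso eQ).inv.left Q.hom).2 h2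
      have hfp : LocallyOfFinitePresentation (Spec.map (CommRingCat.ofHom (algebraMap R B))) :=
        e ▸ (MorphismProperty.cancel_left_of_respectsIso @LocallyOfFinitePresentation (overIso eQ).inv.left Q.hom).2 h3
      rw [HasRingHomProperty.Spec_iff (P := @Flat), CommRingCat.hom_ofHom, RingHom.flat_algebraMap_iff] at hfl
      rw [HasRingHomProperty.Spec_iff (P := @LocallyOfFinitePresentation), CommRingCat.hom_ofHom,
        RingHom.finitePresentation_algebraMap] at hfp
      rw [IsFinite.SpecMap_iff, CommRingCat.hom_ofHom, RingHom.finite_algebraMap] at hf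
      haveI : Module.FinitePresentation R B := Module.FinitePresentation.of_finite_of_finitePresentation R B
      exact ⟨hf, Module.Flat.projective_of_finitePresentation⟩
    · right
      exact ((h.isExt hv).of_iso eE).isMultType hA hG hQ
  obtain ⟨T, _, _, hflat, hfp, hp, σ, hσm, hσ⟩ := exists_section_affine q ψ h' hB p
  refine ⟨T, inferInstance, inferInstance, hflat, hfp, hp,
    (Over.pullback (Spec.map (CommRingCat.ofHom (algebraMap R T)))).map (overIso eQ).hom ≫ σ ≫
      (Over.pullback (Spec.map (CommRingCat.ofHom (algebraMap R T)))).map (overIso eE).inv, inferInstance, ?_⟩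
  rw [hψ, Functor.map_comp, Functor.map_comp] at hσ
  have h2 := congrArg ((Over.pullback (Spec.map (CommRingCat.ofHom (algebraMap R T)))).map (overIso eQ).hom ≫ ·) hσ
  simp only [Category.comp_id] at h2
  rw [← cancel_mono ((Over.pullback (Spec.map (CommRingCat.ofHom (algebraMap R T)))).map (overIso eQ).hom),
    Category.id_comp]
  simpa only [Category.assoc] using h2

/-- Extensions of a finite locally free group or of a group of multiplicative type by `Gm` split fppf-locally. -/
theorem splits_fppfLocally {Q E : Over S} [GrpObj Q] [GrpObj E] [IsCommMonObj E]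
    (hQ : (IsFinite Q.hom ∧ Flat Q.hom ∧ LocallyOfFinitePresentation Q.hom) ∨ SGA3x.IsMultTypeFT Q)
    (u : Red.Gm S ⟶ E) (v : E ⟶ Q) (hex : NonAbH1.IsExactSeq Scheme.fppfPrecoverage u v) (s : S) :
    ∃ (S' : Scheme.{u}) (f : S' ⟶ S), Flat f ∧ LocallyOfFinitePresentation f ∧ s ∈ Set.range f.base ∧
      ∃ σ : Red.bc f Q ⟶ Red.bc f E, IsMonHom σ ∧ σ ≫ (Over.pullback f).map v = 𝟙 (Red.bc f Q) := by
  haveI : IsMonHom u := hex.1
  haveI : IsMonHom v := hex.2.1
  have hGm : SGA3x.IsMultTypeFT (Red.Gm S) := Groth.L25.SplitSub.isMultTypeFT_DS S ℤ inferInstance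
  have hQa : IsAffineHom Q.hom := by
    rcases hQ with ⟨h1, -, -⟩ | h
    · infer_instance
    · exact Groth.L25.Central.isAffineHom_of_multTypeFT h
  haveI hva : IsAffineHom v.left := of_descends hex @IsAffineHom (Groth.L25.Central.isAffineHom_of_multTypeFT hGm)
  haveI hvf : Flat v.left := of_descends hex @Flat (Groth.L25.HomScheme.flat_of_multTypeFT hGm)
  haveI hvs : Surjective v.left := surjective_of_exact hex
  have hEa : IsAffineHom E.hom := by rw [← Over.w v]; infer_instance
  have hE : ∀ (X : Over S) (a b : X ⟶ E), a * b = b * a := fun X a b => mul_comm a b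
  obtain ⟨_, ⟨U, hU, rfl⟩, hs, -⟩ := S.isBasis_affineOpens.exists_subset_of_mem_open
    (show s ∈ (⊤ : S.Opens) from trivial) (⊤ : S.Opens).2
  let θ := hU.fromSpec
  obtain ⟨x, hx⟩ : s ∈ Set.range θ.base := by rw [hU.range_fromSpec]; exact hs
  haveI : IsAffineHom (Red.bc θ E).hom := inferInstanceAs (IsAffineHom (pullback.snd E.hom θ))
  haveI : IsAffineHom (Red.bc θ Q).hom := inferInstanceAs (IsAffineHom (pullback.snd Q.hom θ))
  haveI : IsAffine (Red.bc θ E).left := isAffine_of_isAffineHom (Red.bc θ E).hom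
  haveI : IsAffine (Red.bc θ Q).left := isAffine_of_isAffineHom (Red.bc θ Q).hom
  have hQ' : (IsFinite (Red.bc θ Q).hom ∧ Flat (Red.bc θ Q).hom ∧ LocallyOfFinitePresentation (Red.bc θ Q).hom) ∨
      SGA3x.IsMultTypeFT (Red.bc θ Q) := by
    rcases hQ with ⟨h1, h2, h3⟩ | h
    · exact .inl ⟨MorphismProperty.pullback_snd _ _ h1, MorphismProperty.pullback_snd _ _ h2,
        MorphismProperty.pullback_snd _ _ h3⟩
    · exact .inr (Groth.L25.MultTypeBC.isMultTypeFT_bc h θ)
  obtain ⟨T, _, _, hflat, hfp, ⟨y, hy⟩, σ, hσm, hσ⟩ := exists_section_of_isAffine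
    (Grp.mkIso' (Groth.L25.SplitSub.bcDS (N := ℤ) θ) ≪≫ Groth.L25.Bridge.dsIso Γ(S, U) ℤ)
    (Groth.L25.MultTypeBC.isMultTypeFT_bc hGm θ) (Groth.L25.Extension.comm_bc θ hE)
    ((PtExact.of_exact hex).bc θ)
    (Groth.L25.Extension.cov_bc θ (show Groth.L25.Covers.Cov v from ⟨⟨hvs, hvf⟩, inferInstance⟩)) hQ' x
  let j := Spec.map (CommRingCat.ofHom (algebraMap Γ(S, U) T))
  haveI : Flat j := by
    rw [HasRingHomProperty.Spec_iff (P := @Flat), CommRingCat.hom_ofHom, RingHom.flat_algebraMap_iff]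
    exact hflat
  haveI : LocallyOfFinitePresentation j := by
    rw [HasRingHomProperty.Spec_iff (P := @LocallyOfFinitePresentation), CommRingCat.hom_ofHom,
      RingHom.finitePresentation_algebraMap]
    exact hfp
  let cQ := ActBC.bcCompIso j θ Q (d := j ≫ θ) rfl
  let cE := ActBC.bcCompIso j θ E (d := j ≫ θ) rfl
  refine ⟨_, j ≫ θ, inferInstance, inferInstance, ⟨y, ?_⟩, cQ.inv ≫ σ ≫ cE.hom, inferInstance, ?_⟩
  · rw [← hx, ← hy]
    exact Scheme.Hom.comp_apply j θ y
  · rw [Category.assoc, Category.assoc, ← ActBC.bcCompIso_hom_naturality, reassoc_of% hσ, Iso.inv_hom_id]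

end Groth.L19.ExtGm
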