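import Groth.Agent.L19.ExtGm.Affine
import Groth.Agent.L25.Extension.Main
import Groth.Agent.L25.Char.EtaleSplit
import Groth.Agent.L25.SplitSub.KernelLocal
import Groth.Agent.L25.Central
import Groth.Agent.L25.HomScheme.MultFlat

/-!
# Extensions of finite or multiplicative groups by `Gm` split fppf-locally: the affine case
-/

set_option autoImplicit false
set_option linter.style.haveILetI false
set_option backward.isDefEq.respectTransparency.types false

universe u

open CategoryTheory CategoryTheory.Limits MonoidalCategory CartesianMonoidalCategory MonObj AlgebraicGeometry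
open TensorProduct WithConv
open Groth.L25.Bridge (P)

noncomputable section

namespace Groth.L19.ExtGm

section transport

variable {S : Scheme.{u}} {G E Q G' E' Q' : Over S} [GrpObj G] [GrpObj E] [GrpObj Q] [GrpObj G'] [GrpObj E'] [GrpObj Q']

theorem cov_iso {X Y X' Y' : Over S} {v : X ⟶ Y} (hv : Groth.L28.Ext.Cov v) (a : X' ≅ X) (b : Y ≅ Y') :
    Groth.L28.Ext.Cov (a.hom ≫ v ≫ b.hom) := by
  refine Scheme.fppfTopology.superset_covering ?_ (Scheme.fppfTopology.pullback_stable b.inv.left hv)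
  rintro T g ⟨_, s, _, ⟨⟩, e⟩
  refine ⟨_, s ≫ a.inv.left, _, Presieve.singleton_self _, ?_⟩
  have e1 : a.inv.left ≫ a.hom.left = 𝟙 _ := congrArg CommaMorphism.left a.inv_hom_id
  have e2 : b.inv.left ≫ b.hom.left = 𝟙 _ := congrArg CommaMorphism.left b.inv_hom_id
  rw [Over.comp_left, Over.comp_left, Category.assoc, reassoc_of% e1, reassoc_of% e, e2, Category.comp_id]

theorem PtExact.of_iso {u : G ⟶ E} {v : E ⟶ Q} (h : PtExact u v) (a : G' ≅ G) (b : E ≅ E') (c : Q ≅ Q')
    [IsMonHom b.hom] [IsMonHom b.inv] [IsMonHom c.hom] :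
    PtExact (a.hom ≫ u ≫ b.hom) (b.inv ≫ v ≫ c.hom) where
  cov := cov_iso h.cov b.symm c
  comp := by
    rw [Category.assoc, Category.assoc, b.hom_inv_id_assoc, reassoc_of% h.comp, MonObj.one_comp, MonObj.comp_one]
  inj T g g' e := by
    have e1 := congrArg (· ≫ b.inv) e
    simp only [Category.assoc, b.hom_inv_id, Category.comp_id] at e1
    rw [← Category.assoc, ← Category.assoc] at e1
    exact (cancel_mono a.hom).1 (h.inj T _ _ e1)
  lift T x y e := by
    have e1 := congrArg (· ≫ c.inv) e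
    simp only [Category.assoc, c.hom_inv_id, Category.comp_id] at e1
    rw [← Category.assoc, ← Category.assoc] at e1
    obtain ⟨g, hg⟩ := h.lift T _ _ e1
    refine ⟨g ≫ a.inv, ?_⟩
    have e2 := congrArg (· ≫ b.hom) hg
    simp only [MonObj.mul_comp, Category.assoc, b.inv_hom_id, Category.comp_id] at e2
    rw [← e2]
    simp

end transport

/-- Characters of `E` with restriction the standard one exist fppf-locally. -/
theorem exists_character {R : Type u} [CommRing R] {A B : Type u} [CommRing A] [HopfAlgebra R A]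
    [CommRing B] [HopfAlgebra R B] [Coalgebra.IsCocomm R A]
    (q : A →ₐc[R] MonoidAlgebra R (Multiplicative ℤ)) (ψ : B →ₐc[R] A) (h : PtExact (spm q) (spm ψ))
    (hQ : (Module.Finite R B ∧ Module.Projective R B) ∨ (SGA3b.IsMultType R A ∧ Algebra.FiniteType R A))
    (p : PrimeSpectrum R) :
    ∃ (T : Type u) (_ : CommRing T) (_ : Algebra R T), Module.Flat R T ∧
      Algebra.FinitePresentation R T ∧ p ∈ Set.range (PrimeSpectrum.comap (algebraMap R T)) ∧
      ∃ g : GroupLike T (T ⊗[R] A),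
        Algebra.TensorProduct.map (AlgHom.id R T) (q : A →ₐ[R] MonoidAlgebra R (Multiplicative ℤ)) g.val =
          1 ⊗ₜ MonoidAlgebra.single (Multiplicative.ofAdd (1 : ℤ)) 1 := by
  haveI : IsSeparated (P R B).hom :=
    inferInstanceAs (IsSeparated (Spec.map (CommRingCat.ofHom (algebraMap R B))))
  obtain ⟨y, hy⟩ := surjective_of_kernel q rfl h (MonoidAlgebra.single (Multiplicative.ofAdd (1 : ℤ)) 1)
  rcases hQ with ⟨hfin, hproj⟩ | ⟨hmt, hft⟩
  · obtain ⟨h1, h2⟩ := finite_projective_part q hy (ψ : B →ₐ[R] A).toLinearMap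
      (injective_of_cov (v := spm ψ) rfl h.cov) (fun a ha => mem_range_of_invariant q (v := spm ψ) rfl h ha)
    exact exists_groupLike q _ hy p
  · obtain ⟨T₀, _, _, _, Q₀, hQ₀, hQp, N, _, _, ⟨e⟩⟩ := Groth.L25.Char.exists_etale_split hmt p.asIdeal
    obtain ⟨c, hc, g, hg⟩ := exists_groupLike_of_split q _ hy e ⟨Q₀, hQ₀⟩
    haveI : Algebra.Etale T₀ (Localization.Away c) := Algebra.Etale.of_isLocalizationAway c
    haveI : Algebra.Etale R (Localization.Away c) := Algebra.Etale.comp R T₀ (Localization.Away c)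
    refine ⟨Localization.Away c, inferInstance, inferInstance, inferInstance, inferInstance, ?_, g, hg⟩
    obtain ⟨z, hz⟩ : (⟨Q₀, hQ₀⟩ : PrimeSpectrum T₀) ∈
        Set.range (PrimeSpectrum.comap (algebraMap T₀ (Localization.Away c))) := by
      rw [PrimeSpectrum.localization_away_comap_range (Localization.Away c) c]
      exact hc
    refine ⟨z, ?_⟩
    rw [IsScalarTower.algebraMap_eq R T₀ (Localization.Away c), PrimeSpectrum.comap_comp, Function.comp_apply, hz]
    exact PrimeSpectrum.ext hQp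

theorem isMonHom_inv {S : Scheme.{u}} {X Y : Over S} [GrpObj X] [GrpObj Y] (e : Grp.mk X ≅ Grp.mk Y) :
    IsMonHom e.hom.hom.hom ∧ IsMonHom e.inv.hom.hom :=
  ⟨e.hom.hom.isMonHom_hom, e.inv.hom.isMonHom_hom⟩

/-- A character with the standard restriction gives a retraction after base change. -/
theorem exists_retraction_bc {R : Type u} [CommRing R] {A : Type u} [CommRing A] [HopfAlgebra R A]
    (q : A →ₐc[R] MonoidAlgebra R (Multiplicative ℤ)) (T : Type u) [CommRing T] [Algebra R T]
    (g : GroupLike T (T ⊗[R] A))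
    (hg : Algebra.TensorProduct.map (AlgHom.id R T) (q : A →ₐ[R] MonoidAlgebra R (Multiplicative ℤ)) g.val =
          1 ⊗ₜ MonoidAlgebra.single (Multiplicative.ofAdd (1 : ℤ)) 1) :
    ∃ χ : Red.bc (Spec.map (CommRingCat.ofHom (algebraMap R T))) (P R A) ⟶
        Red.bc (Spec.map (CommRingCat.ofHom (algebraMap R T))) (P R (MonoidAlgebra R (Multiplicative ℤ))),
      IsMonHom χ ∧ (Over.pullback (Spec.map (CommRingCat.ofHom (algebraMap R T)))).map (spm q) ≫ χ = 𝟙 _ := by
  obtain ⟨k, hk⟩ := exists_retraction_hom q g hg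
  obtain ⟨hA, -⟩ := isMonHom_inv (Groth.L25.Bridge.bcIso R A T)
  obtain ⟨-, hC⟩ := isMonHom_inv (Groth.L25.Bridge.bcIso R (MonoidAlgebra R (Multiplicative ℤ)) T)
  refine ⟨(Groth.L25.Bridge.bcIso R A T).hom.hom.hom ≫ spm k ≫
    (Groth.L25.Bridge.bcIso R (MonoidAlgebra R (Multiplicative ℤ)) T).inv.hom.hom, inferInstance, ?_⟩
  have e1 := spm_comp (R := T) (A := T ⊗[R] MonoidAlgebra R (Multiplicative ℤ)) (B := T ⊗[R] A)
    (C := T ⊗[R] MonoidAlgebra R (Multiplicative ℤ)) k (Bialgebra.TensorProduct.map (BialgHom.id T T) q)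
  rw [hk, spm_id] at e1
  rw [← Category.assoc, bcIso_natural T q, Category.assoc]
  refine Eq.trans (congrArg (_ ≫ ·) ((reassoc_of% e1) _)) ?_
  exact congr($((Groth.L25.Bridge.bcIso R (MonoidAlgebra R (Multiplicative ℤ)) T).hom_inv_id).hom.hom)

/-- The section over an affine base. -/
theorem exists_section_affine {R : Type u} [CommRing R] {A B : Type u} [CommRing A] [HopfAlgebra R A]
    [CommRing B] [HopfAlgebra R B] [Coalgebra.IsCocomm R A] [IsCommMonObj (P R A)]
    (q : A →ₐc[R] MonoidAlgebra R (Multiplicative ℤ)) (ψ : B →ₐc[R] A) (h : PtExact (spm q) (spm ψ))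
    (hQ : (Module.Finite R B ∧ Module.Projective R B) ∨ (SGA3b.IsMultType R A ∧ Algebra.FiniteType R A))
    (p : PrimeSpectrum R) :
    ∃ (T : Type u) (_ : CommRing T) (_ : Algebra R T), Module.Flat R T ∧ Algebra.FinitePresentation R T ∧
      p ∈ Set.range (PrimeSpectrum.comap (algebraMap R T)) ∧
      ∃ σ : Red.bc (Spec.map (CommRingCat.ofHom (algebraMap R T))) (P R B) ⟶
          Red.bc (Spec.map (CommRingCat.ofHom (algebraMap R T))) (P R A),
        IsMonHom σ ∧ σ ≫ (Over.pullback (Spec.map (CommRingCat.ofHom (algebraMap R T)))).map (spm ψ) = 𝟙 _ := by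
  obtain ⟨T, _, _, hflat, hfp, hp, g, hg⟩ := exists_character q ψ h hQ p
  obtain ⟨χ, hχm, hχ⟩ := exists_retraction_bc q T g hg
  exact ⟨T, inferInstance, inferInstance, hflat, hfp, hp,
    (h.bc (Spec.map (CommRingCat.ofHom (algebraMap R T)))).exists_section χ hχ⟩

end Groth.L19.ExtGm
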