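import Groth.Agent.L19.ExtGm.Weight
import Mathlib.RingTheory.Finiteness.Projective
import Mathlib.RingTheory.Spectrum.Prime.Topology
import Mathlib.RingTheory.IntegralClosure.IsIntegralClosure.Basic
import Mathlib.RingTheory.Ideal.GoingUp
import Mathlib.RingTheory.LocalProperties.Projective
import Mathlib.RingTheory.Flat.Basic
import Mathlib.RingTheory.Finiteness.ModuleFinitePresentation

/-!
# The universal group-like element of a weight

If the weight `t` part is finitely generated projective, the corner ring of the convolution algebra carries a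
group-like element of that weight.
-/

set_option autoImplicit false

universe u v

open TensorProduct WithConv
open Groth.L25.MultType (coefL coefL_apply coefL_single cf isIdempotentElem_cf)
open Groth.L25.Char (IsGL comulT sqT inl inr)

noncomputable section

namespace Groth.L19.ExtGm

variable {R : Type u} [CommRing R] {A : Type u} [CommRing A] [HopfAlgebra R A] [Coalgebra.IsCocomm R A]
  {M : Type v} [CommGroup M] (q : A →ₐc[R] MonoidAlgebra R M) (t : M)

/-- The idempotent of weight `t` in the convolution algebra. -/
def idem : WithConv (A →ₗ[R] R) := toConv (wfun q t)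

omit [Coalgebra.IsCocomm R A] in
theorem idem_mul_self : idem q t * idem q t = idem q t :=
  isIdempotentElem_cf (q : A →ₗc[R] MonoidAlgebra R M) t

omit [Coalgebra.IsCocomm R A] in
theorem mul_idem (f : WithConv (A →ₗ[R] R)) : f * idem q t = toConv (f.ofConv ∘ₗ proj q t) := by
  refine WithConv.ext (LinearMap.ext fun a => ?_)
  rw [LinearMap.convMul_apply]
  show _ = f.ofConv (proj q t a)
  rw [proj_apply]
  generalize Coalgebra.comul (R := R) a = z
  induction z using TensorProduct.induction_on with
  | zero => simp
  | add x y hx hy => simp only [map_add, hx, hy]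
  | tmul a b => simp [idem, wev_tmul, _root_.mul_comm]

/-- The ideal cutting out the corner ring. -/
def cornerIdeal : Ideal (WithConv (A →ₗ[R] R)) :=
  Ideal.span {(1 : WithConv (A →ₗ[R] R)) - idem q t}

/-- The corner ring of weight `t`. -/
def Corner : Type u := WithConv (A →ₗ[R] R) ⧸ cornerIdeal q t

instance : CommRing (Corner q t) := inferInstanceAs (CommRing (_ ⧸ cornerIdeal q t))

instance : Algebra R (Corner q t) := inferInstanceAs (Algebra R (_ ⧸ cornerIdeal q t))

/-- The class of a functional. -/
def cls : WithConv (A →ₗ[R] R) →ₐ[R] Corner q t :=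
  Ideal.Quotient.mkₐ R (cornerIdeal q t)

theorem cls_surjective : Function.Surjective (cls q t) := Ideal.Quotient.mk_surjective

theorem cls_eq_zero_iff {f : WithConv (A →ₗ[R] R)} : cls q t f = 0 ↔ f ∈ cornerIdeal q t :=
  Ideal.Quotient.eq_zero_iff_mem

theorem cls_idem : cls q t (idem q t) = 1 := by
  have h : cls q t (1 - idem q t) = 0 := (cls_eq_zero_iff q t).2 (Ideal.subset_span rfl)
  rw [map_sub, map_one, sub_eq_zero] at h
  exact h.symm

theorem cls_mul_idem (f : WithConv (A →ₗ[R] R)) : cls q t (f * idem q t) = cls q t f :=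
  (map_mul (cls q t) f (idem q t)).trans ((congrArg (cls q t f * ·) (cls_idem q t)).trans (mul_one _))

theorem apply_eq_zero_of_mem {f : WithConv (A →ₗ[R] R)}
    (hf : f ∈ cornerIdeal q t) {a : A} (ha : a ∈ part q t) :
    f.ofConv a = 0 := by
  obtain ⟨g, rfl⟩ := Ideal.mem_span_singleton'.1 hf
  rw [_root_.mul_sub, _root_.mul_one, mul_idem]
  show g.ofConv a - g.ofConv (proj q t a) = 0
  rw [proj_of_mem q ha, sub_self]

variable [Module.Finite R (part q t)] [Module.Projective R (part q t)]

theorem exists_dualBasis : ∃ (N : ℕ) (φ : Fin N → WithConv (A →ₗ[R] R)) (l : Fin N → A),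
    (∀ i, l i ∈ part q t) ∧ ∀ a, proj q t a = ∑ i, (φ i).ofConv a • l i := by
  obtain ⟨N, f, g, -, -, hfg⟩ := Module.Finite.exists_comp_eq_id_of_projective R (part q t)
  let p : A →ₗ[R] part q t := (proj q t).rangeRestrict
  refine ⟨N, fun i => toConv (LinearMap.proj i ∘ₗ g ∘ₗ p), fun i => (f (Pi.single i 1) : A),
    fun i => (f _).2, fun a => ?_⟩
  have e : f (g (p a)) = p a := LinearMap.congr_fun hfg (p a)
  have e2 : g (p a) = ∑ i, (g (p a)) i • (Pi.single i 1 : Fin N → R) := by
    conv_lhs => rw [← Finset.univ_sum_single (g (p a))]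
    refine Finset.sum_congr rfl fun i _ => ?_
    rw [← Pi.single_smul, smul_eq_mul, _root_.mul_one]
  have e3 := congrArg (Subtype.val : part q t → A) (e2 ▸ e.symm)
  refine e3.trans ?_
  rw [map_sum, AddSubmonoidClass.coe_finsetSum]
  refine Finset.sum_congr rfl fun i _ => ?_
  rw [map_smul, SetLike.val_smul]
  rfl

section dualBasis

variable {N : ℕ} {φ : Fin N → WithConv (A →ₗ[R] R)} {l : Fin N → A} (hl : ∀ i, l i ∈ part q t)
  (hφ : ∀ a, proj q t a = ∑ i, (φ i).ofConv a • l i)

include hφ in
theorem cls_eq_sum (f : WithConv (A →ₗ[R] R)) :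
    cls q t f = ∑ i, f.ofConv (l i) • cls q t (φ i) := by
  rw [← cls_mul_idem, mul_idem]
  simp only [← map_smul, ← map_sum]
  congr 1
  refine WithConv.ext (LinearMap.ext fun a => ?_)
  rw [WithConv.ofConv_sum, LinearMap.sum_apply]
  show f.ofConv (proj q t a) = ∑ i, f.ofConv (l i) * (φ i).ofConv a
  rw [hφ, map_sum]
  exact Finset.sum_congr rfl fun i _ => by rw [map_smul, smul_eq_mul, _root_.mul_comm]

include hl hφ in
theorem finite_projective_corner : Module.Finite R (Corner q t) ∧ Module.Projective R (Corner q t) := by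
  let s : (Fin N → R) →ₗ[R] Corner q t := Fintype.linearCombination R (fun i => cls q t (φ i))
  let ev : WithConv (A →ₗ[R] R) →ₗ[R] (Fin N → R) :=
    { toFun := fun f i => f.ofConv (l i)
      map_add' := fun f g => rfl
      map_smul' := fun r f => rfl }
  have hev : ∀ f g : WithConv (A →ₗ[R] R), cls q t f = cls q t g → ev f = ev g := by
    intro f g h
    rw [← sub_eq_zero, ← map_sub]
    rw [← sub_eq_zero, ← map_sub, cls_eq_zero_iff] at h
    exact funext fun i => apply_eq_zero_of_mem q t h (hl i)
  choose sec hsec using cls_surjective q t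
  let r : Corner q t →ₗ[R] (Fin N → R) :=
    { toFun := fun x => ev (sec x)
      map_add' := fun x y => by
        rw [← map_add]
        exact hev _ _ (by rw [map_add, hsec, hsec, hsec])
      map_smul' := fun c x => by
        rw [RingHom.id_apply, ← map_smul]
        exact hev _ _ (by rw [map_smul, hsec, hsec]) }
  have hsr : ∀ x, s (r x) = x := by
    intro x
    refine Eq.trans ?_ ((cls_eq_sum q t hφ (sec x)).symm.trans (hsec x))
    exact Fintype.linearCombination_apply R _ _
  exact ⟨Module.Finite.of_surjective s fun x => ⟨r x, hsr x⟩,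
    Module.Projective.of_split r s (LinearMap.ext hsr)⟩

omit [Module.Finite R (part q t)] [Module.Projective R (part q t)] in
theorem injective_corner {y : A} (hy : q y = MonoidAlgebra.single t 1) :
    Function.Injective (algebraMap R (Corner q t)) := by
  classical
  rw [injective_iff_map_eq_zero]
  intro r hr
  rw [Algebra.algebraMap_eq_smul_one, ← cls_idem, ← map_smul, cls_eq_zero_iff] at hr
  have h := apply_eq_zero_of_mem q t hr (proj_mem q t y)
  change r • wfun q t (proj q t y) = 0 at h
  rwa [wfun_proj, wfun_apply, hy, coefL_single, if_pos rfl, smul_eq_mul, _root_.mul_one] at h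

/-- The universal element. -/
def univElt (φ : Fin N → WithConv (A →ₗ[R] R)) (l : Fin N → A) : Corner q t ⊗[R] A :=
  ∑ i, cls q t (φ i) ⊗ₜ[R] l i

include hφ in
theorem counit_univElt : Coalgebra.counit (R := Corner q t) (univElt q t φ l) = 1 := by
  rw [univElt, map_sum, ← cls_idem]
  simp only [TensorProduct.counit_tmul, CommSemiring.counit_apply]
  simp only [← map_smul, ← map_sum]
  congr 1
  refine WithConv.ext (LinearMap.ext fun a => ?_)
  rw [WithConv.ofConv_sum, LinearMap.sum_apply]
  show ∑ i, Coalgebra.counit (R := R) (l i) * (φ i).ofConv a = wfun q t a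
  rw [← counit_proj, hφ, map_sum]
  exact Finset.sum_congr rfl fun i _ => by rw [map_smul, smul_eq_mul, _root_.mul_comm]

include hl hφ in
theorem isGroupLike_univElt : IsGroupLikeElem (Corner q t) (univElt q t φ l) := by
  refine (Groth.L25.Char.isGL_iff R A _ _).1 ⟨?_, counit_univElt q t hφ⟩
  have hmap : ∀ z : A ⊗[R] A, TensorProduct.map (proj q t) (proj q t) z =
      ∑ j, ∑ k, LinearMap.mul' R R (TensorProduct.map (φ j).ofConv (φ k).ofConv z) • (l j ⊗ₜ[R] l k) := by
    intro z
    induction z using TensorProduct.induction_on with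
    | zero => simp
    | add x y hx hy => simp only [map_add, hx, hy, add_smul, Finset.sum_add_distrib]
    | tmul a b =>
      simp only [TensorProduct.map_tmul, LinearMap.mul'_apply, hφ, TensorProduct.sum_tmul,
        TensorProduct.tmul_sum, TensorProduct.tmul_smul, Finset.smul_sum]
      rw [Finset.sum_comm]
      refine Finset.sum_congr rfl fun j _ => Finset.sum_congr rfl fun k _ => ?_
      simp only [TensorProduct.smul_tmul', smul_smul, _root_.mul_comm]
  have hΔ : ∀ i, Coalgebra.comul (R := R) (l i) =
      ∑ j, ∑ k, (φ j * φ k).ofConv (l i) • (l j ⊗ₜ[R] l k) := by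
    intro i
    have h := comul_proj_eq q t (l i)
    rw [proj_of_mem q (hl i), hmap] at h
    simp only [LinearMap.convMul_apply]
    exact h
  have hL : comulT R A (Corner q t) (univElt q t φ l) =
      ∑ j, ∑ k, cls q t (φ j * φ k) ⊗ₜ[R] (l j ⊗ₜ[R] l k) := by
    simp only [univElt, map_sum, comulT, Algebra.TensorProduct.map_tmul, AlgHom.id_apply,
      Bialgebra.comulAlgHom_apply, hΔ, TensorProduct.tmul_sum, TensorProduct.tmul_smul]
    rw [Finset.sum_comm]
    refine Finset.sum_congr rfl fun j _ => ?_
    rw [Finset.sum_comm]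
    refine Finset.sum_congr rfl fun k _ => ?_
    rw [cls_eq_sum q t hφ (φ j * φ k), TensorProduct.sum_tmul]
    exact Finset.sum_congr rfl fun i _ => TensorProduct.smul_tmul' _ _ _
  rw [hL, sqT, univElt]
  simp only [map_sum, inl, inr, Algebra.TensorProduct.map_tmul, AlgHom.id_apply,
    Algebra.TensorProduct.includeLeft_apply, Algebra.TensorProduct.includeRight_apply, Finset.sum_mul,
    Finset.mul_sum, Algebra.TensorProduct.tmul_mul_tmul, _root_.one_mul, _root_.mul_one, map_mul]
  exact Finset.sum_comm

include hl hφ in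
theorem map_univElt :
    Algebra.TensorProduct.map (AlgHom.id R (Corner q t)) (q : A →ₐ[R] MonoidAlgebra R M) (univElt q t φ l) =
      1 ⊗ₜ MonoidAlgebra.single t 1 := by
  have h1 : ∀ i, q (l i) = Coalgebra.counit (R := R) (l i) • MonoidAlgebra.single t 1 := by
    intro i
    rw [← proj_of_mem q (hl i), map_proj, counit_proj, MonoidAlgebra.smul_single', _root_.mul_one]
  rw [← counit_univElt q t hφ, univElt, map_sum, map_sum, TensorProduct.sum_tmul]
  refine Finset.sum_congr rfl fun i _ => ?_
  rw [Algebra.TensorProduct.map_tmul, AlgHom.id_apply, TensorProduct.counit_tmul, CommSemiring.counit_apply]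
  show _ ⊗ₜ q (l i) = _
  rw [h1, TensorProduct.tmul_smul, TensorProduct.smul_tmul']

end dualBasis

/-- Over a faithfully flat finitely presented algebra there is a group-like element of weight `t`. -/
theorem exists_groupLike {y : A} (hy : q y = MonoidAlgebra.single t 1) (p : PrimeSpectrum R) :
    ∃ (T : Type u) (_ : CommRing T) (_ : Algebra R T), Module.Flat R T ∧ Algebra.FinitePresentation R T ∧
      p ∈ Set.range (PrimeSpectrum.comap (algebraMap R T)) ∧
      ∃ g : GroupLike T (T ⊗[R] A),
        Algebra.TensorProduct.map (AlgHom.id R T) (q : A →ₐ[R] MonoidAlgebra R M) g.val =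
          1 ⊗ₜ MonoidAlgebra.single t 1 := by
  obtain ⟨N, φ, l, hl, hφ⟩ := exists_dualBasis q t
  obtain ⟨h1, h2⟩ := finite_projective_corner q t hl hφ
  haveI := Module.finitePresentation_of_projective R (Corner q t)
  haveI : Algebra.IsIntegral R (Corner q t) := Algebra.IsIntegral.of_finite R _
  haveI : Module.Flat R (Corner q t) := inferInstance
  haveI : FaithfulSMul R (Corner q t) :=
    (faithfulSMul_iff_algebraMap_injective R _).2 (injective_corner q t hy)
  refine ⟨Corner q t, inferInstance, inferInstance, inferInstance, inferInstance, ?_,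
    ⟨univElt q t φ l, isGroupLike_univElt q t hl hφ⟩, map_univElt q t hl hφ⟩
  exact Algebra.IsIntegral.comap_surjective R (Corner q t) p

end Groth.L19.ExtGm
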