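import Groth.Agent.L25.Char.BaseChange
import Groth.Agent.L25.Char.Coeff
import Mathlib.RingTheory.HopfAlgebra.Convolution
import Mathlib.RingTheory.Coalgebra.Basic

/-!
# Weight projections of a Hopf algebra mapping to a group algebra

For a bialgebra map `q : A → R[M]` the projection `π m` of `A` on the weight `m` part of the coaction
`(id ⊗ q) ∘ Δ`.
-/

set_option autoImplicit false

universe u v

open TensorProduct WithConv
open Groth.L25.MultType (coefL coefL_apply coefL_single)

noncomputable section

namespace Groth.L19.ExtGm

variable {R : Type u} [CommRing R] {A : Type u} [CommRing A] [HopfAlgebra R A]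
  {M : Type v} [CommGroup M] (q : A →ₐc[R] MonoidAlgebra R M)

/-- The coefficient functional of weight `m`. -/
def wfun (m : M) : A →ₗ[R] R := coefL m ∘ₗ q.toLinearMap

theorem wfun_apply (m : M) (a : A) : wfun q m a = coefL m (q a) := rfl

/-- The evaluation `a ⊗ b ↦ e_m(b) • a`. -/
def wev (m : M) : A ⊗[R] A →ₗ[R] A :=
  (TensorProduct.rid R A).toLinearMap ∘ₗ (wfun q m).lTensor A

theorem wev_tmul (m : M) (a b : A) : wev q m (a ⊗ₜ b) = wfun q m b • a := by
  simp [wev]

/-- The projection on weight `m`. -/
def proj (m : M) : A →ₗ[R] A := wev q m ∘ₗ Coalgebra.comul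

theorem proj_apply (m : M) (a : A) : proj q m a = wev q m (Coalgebra.comul (R := R) a) := rfl

theorem comul_wev (m : M) (z : A ⊗[R] A) :
    Coalgebra.comul (R := R) (wev q m z) =
      (wev q m).lTensor A (TensorProduct.assoc R A A A ((Coalgebra.comul (R := R)).rTensor A z)) := by
  induction z using TensorProduct.induction_on with
  | zero => simp
  | add x y hx hy => simp only [map_add, hx, hy]
  | tmul a b =>
    rw [wev_tmul, map_smul, LinearMap.rTensor_tmul]
    induction Coalgebra.comul (R := R) a using TensorProduct.induction_on with
    | zero => simp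
    | add x y hx hy => simp only [smul_add, TensorProduct.add_tmul, map_add, hx, hy]
    | tmul x y =>
      rw [TensorProduct.assoc_tmul, LinearMap.lTensor_tmul, wev_tmul, TensorProduct.tmul_smul]

theorem comul_proj (m : M) (a : A) :
    Coalgebra.comul (R := R) (proj q m a) = (proj q m).lTensor A (Coalgebra.comul (R := R) a) := by
  rw [proj_apply, comul_wev, Coalgebra.coassoc_apply, ← LinearMap.lTensor_comp_apply]
  rfl

/-- The image of the weight `m` part in the group algebra. -/
theorem map_proj (m : M) (a : A) : q (proj q m a) = MonoidAlgebra.single m (wfun q m a) := by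
  classical
  have key : ∀ x : MonoidAlgebra R M,
      TensorProduct.rid R (MonoidAlgebra R M) ((coefL m).lTensor _ (Coalgebra.comul (R := R) x)) =
        MonoidAlgebra.single m (coefL m x) := by
    intro x
    induction x using MonoidAlgebra.induction_linear with
    | zero => simp
    | add x y hx hy => simp only [map_add, hx, hy, MonoidAlgebra.single_add]
    | single n r =>
      simp only [MonoidAlgebra.comul_single, CommSemiring.comul_apply, TensorProduct.map_tmul,
        MonoidAlgebra.lsingle_apply, LinearMap.lTensor_tmul, TensorProduct.rid_tmul, coefL_single]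
      split_ifs with h
      · subst h
        rw [MonoidAlgebra.smul_single', _root_.mul_one]
      · rw [zero_smul, MonoidAlgebra.single_zero]
  rw [wfun_apply, ← key, ← CoalgHomClass.map_comp_comul_apply, proj_apply]
  generalize Coalgebra.comul (R := R) a = z
  induction z using TensorProduct.induction_on with
  | zero => simp
  | add x y hx hy => simp only [map_add, hx, hy]
  | tmul a b => simp [wev_tmul, wfun_apply]

theorem wfun_proj (m : M) (a : A) : wfun q m (proj q m a) = wfun q m a := by
  classical
  rw [wfun_apply, map_proj, coefL_single, if_pos rfl]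

theorem proj_proj (m : M) (a : A) : proj q m (proj q m a) = proj q m a := by
  rw [proj_apply, comul_proj, proj_apply]
  generalize Coalgebra.comul (R := R) a = z
  induction z using TensorProduct.induction_on with
  | zero => simp
  | add x y hx hy => simp only [map_add, hx, hy]
  | tmul a b => rw [LinearMap.lTensor_tmul, wev_tmul, wev_tmul, wfun_proj]

theorem counit_proj (m : M) (a : A) : Coalgebra.counit (R := R) (proj q m a) = wfun q m a := by
  have h : ∀ z : A ⊗[R] A, Coalgebra.counit (R := R) (wev q m z) =
      wfun q m (TensorProduct.lid R A ((Coalgebra.counit (R := R)).rTensor A z)) := by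
    intro z
    induction z using TensorProduct.induction_on with
    | zero => simp
    | add x y hx hy => simp only [map_add, hx, hy]
    | tmul a b => simp [wev_tmul, _root_.mul_comm]
  rw [proj_apply, h, Coalgebra.rTensor_counit_comul, TensorProduct.lid_tmul, one_smul]

theorem comul_proj_eq [Coalgebra.IsCocomm R A] (m : M) (a : A) :
    Coalgebra.comul (R := R) (proj q m a) =
      TensorProduct.map (proj q m) (proj q m) (Coalgebra.comul (R := R) (proj q m a)) := by
  have h1 := comul_proj q m (proj q m a)
  rw [proj_proj] at h1
  have h2 : ∀ z : A ⊗[R] A,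
      TensorProduct.comm R A A ((proj q m).lTensor A z) = (proj q m).rTensor A (TensorProduct.comm R A A z) := by
    intro z
    induction z using TensorProduct.induction_on with
    | zero => simp
    | add x y hx hy => simp only [map_add, hx, hy]
    | tmul a b => simp
  have h3 := congrArg (TensorProduct.comm R A A) h1
  rw [h2, Coalgebra.comm_comul] at h3
  conv_lhs => rw [h1, h3, ← LinearMap.comp_apply, LinearMap.lTensor_comp_rTensor]

theorem proj_one : proj q 1 1 = 1 := by
  classical
  rw [proj_apply, Bialgebra.comul_one, Algebra.TensorProduct.one_def, wev_tmul, wfun_apply, map_one,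
    MonoidAlgebra.one_def, coefL_single, if_pos rfl, one_smul]

theorem proj_mul (m n : M) (x l : A) (hl : proj q n l = l) :
    proj q (m * n) (x * l) = proj q m x * l := by
  classical
  have hl' : Coalgebra.comul (R := R) l = (proj q n).lTensor A (Coalgebra.comul (R := R) l) := by
    have h := comul_proj q n l
    rwa [hl] at h
  have key : ∀ z w : A ⊗[R] A,
      wev q (m * n) (z * (proj q n).lTensor A w) = wev q m z * wev q n w := by
    intro z w
    induction z using TensorProduct.induction_on with
    | zero => simp
    | add x y hx hy => simp only [map_add, _root_.add_mul, hx, hy]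
    | tmul a b =>
      induction w using TensorProduct.induction_on with
      | zero => simp
      | add x y hx hy => simp only [map_add, _root_.mul_add, hx, hy]
      | tmul a' b' =>
        rw [LinearMap.lTensor_tmul, Algebra.TensorProduct.tmul_mul_tmul, wev_tmul, wev_tmul, wev_tmul,
          smul_mul_smul_comm]
        congr 1
        rw [wfun_apply, map_mul, map_proj, coefL_apply, wfun_apply q m, coefL_apply]
        exact MonoidAlgebra.coeff_mul_single_eq_coeff_mul m fun m' _ => mul_left_inj n
  rw [proj_apply, Bialgebra.comul_mul, hl', key, ← proj_apply, ← proj_apply, hl]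

/-- The weight `m` part as a submodule. -/
def part (m : M) : Submodule R A := LinearMap.range (proj q m)

theorem proj_of_mem {m : M} {a : A} (ha : a ∈ part q m) : proj q m a = a := by
  obtain ⟨b, rfl⟩ := ha
  exact proj_proj q m b

theorem proj_mem (m : M) (a : A) : proj q m a ∈ part q m := LinearMap.mem_range_self _ a

theorem mul_mem_part {m n : M} {a b : A} (ha : a ∈ part q m) (hb : b ∈ part q n) :
    a * b ∈ part q (m * n) := by
  refine ⟨a * b, ?_⟩
  rw [proj_mul q m n a b (proj_of_mem q hb), proj_of_mem q ha]

/-- A surjection onto the group algebra puts `1` in the product of the parts of weight `t` and `t⁻¹`. -/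
theorem exists_sum_eq_one {t : M} {y : A} (hy : q y = MonoidAlgebra.single t 1) :
    ∃ (N : ℕ) (a b : Fin N → A), (∀ i, a i ∈ part q t) ∧ (∀ i, b i ∈ part q t⁻¹) ∧
      ∑ i, b i * a i = 1 := by
  classical
  have h1 : ∀ z : A ⊗[R] A, LinearMap.mul' R A (TensorProduct.map LinearMap.id
      (Algebra.linearMap R A ∘ₗ wfun q t) z) = wev q t z := by
    intro z
    induction z using TensorProduct.induction_on with
    | zero => simp
    | add x y hx hy => simp only [map_add, hx, hy]
    | tmul a b => simp [wev_tmul, Algebra.smul_def, _root_.mul_comm]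
  have hp : toConv (proj q t) = toConv LinearMap.id * toConv (Algebra.linearMap R A ∘ₗ wfun q t) := by
    refine WithConv.ext (LinearMap.ext fun a => ?_)
    rw [LinearMap.convMul_apply]
    exact (h1 _).symm
  have h2 : toConv (HopfAlgebra.antipode R (A := A)) * toConv (proj q t) =
      toConv (Algebra.linearMap R A ∘ₗ wfun q t) := by
    rw [hp, ← _root_.mul_assoc, LinearMap.antipode_mul_id, _root_.one_mul]
  have h3 : LinearMap.mul' R A (TensorProduct.map (HopfAlgebra.antipode R) (proj q t)
      (Coalgebra.comul (R := R) y)) = 1 := by
    have e := LinearMap.congr_fun (congrArg WithConv.ofConv h2) y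
    rw [LinearMap.convMul_apply] at e
    refine e.trans ?_
    show algebraMap R A (wfun q t y) = 1
    rw [wfun_apply, hy, coefL_single, if_pos rfl, map_one]
  let r := Coalgebra.Repr.arbitrary R y
  rw [← r.eq, map_sum, map_sum] at h3
  simp only [TensorProduct.map_tmul, LinearMap.mul'_apply] at h3
  obtain ⟨N, ⟨φ⟩⟩ : ∃ N, Nonempty (r.index ≃ Fin N) := ⟨_, ⟨Fintype.equivFin _⟩⟩
  refine ⟨N, fun i => proj q t (r.right (φ.symm i)),
    fun i => proj q t⁻¹ (HopfAlgebra.antipode R (r.left (φ.symm i))),
    fun i => proj_mem q _ _, fun i => proj_mem q _ _, ?_⟩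
  have h4 := congrArg (proj q 1) h3
  rw [map_sum, proj_one] at h4
  rw [← h4]
  refine (Equiv.sum_comp φ.symm
    fun j : r.index => proj q t⁻¹ (HopfAlgebra.antipode R (r.left j)) * proj q t (r.right j)).trans ?_
  rw [← r.index.sum_coe_sort fun j => proj q 1 (HopfAlgebra.antipode R (r.left j) * proj q t (r.right j))]
  refine Finset.sum_congr rfl fun j _ => ?_
  have h5 := proj_mul q t⁻¹ t (HopfAlgebra.antipode R (r.left j)) _ (proj_proj q t (r.right j))
  rw [inv_mul_cancel] at h5
  exact h5.symm

end Groth.L19.ExtGm
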